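import Groth.Agent.H18Et.UnibranchNormal
import Groth.Agent.H18Et.Cons.Subsheaf
import Groth.Agent.H18Et.Cons.PushFinite
import Groth.Agent.H18HTop.SpecLiftDVR
import Groth.Agent.H18Devissage.Main
import Groth.Agent.H17.NagataNorm
import Groth.Agent.H17.NormalNormalizationScheme
import Groth.Agent.H8Props.NagataAffine
import Groth.Agent.H1CAlg.NagataFiniteType
import Groth.Agent.H15Site.HensCoh.Basic

/-!
# Direct images of constructible sheaves along quasi-finite morphisms to Nagata schemes
-/

set_option autoImplicit false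
set_option linter.style.haveILetI false
set_option backward.isDefEq.respectTransparency false
set_option backward.isDefEq.respectTransparency.types false

universe u

open CategoryTheory CategoryTheory.Limits AlgebraicGeometry Opposite
open Groth.Agent.H18Et
open scoped Groth.Agent.H18Et

namespace Groth.Agent.H18QFPush

variable {X Y : Scheme.{u}}

/-- Every affine open has Nagata coordinate ring. -/
abbrev IsNagataScheme (X : Scheme.{u}) : Prop := ∀ U : X.affineOpens, CAlg.IsNagata Γ(X, U)

theorem isNagata_of_japanese {R : Type u} [CommRing R] [IsNoetherianRing R] (h : CAlg.IsUniversallyJapanese R) :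
    CAlg.IsNagata R :=
  ⟨inferInstance, fun p _ => h (R ⧸ p) inferInstance⟩

theorem isNagataScheme_of_lft (q : Y ⟶ X) [LocallyOfFiniteType q] (hX : IsNagataScheme X) :
    IsNagataScheme Y := fun V => by
  have H : ∀ y : Y, ∃ W : Y.Opens, IsAffineOpen W ∧ y ∈ W ∧ CAlg.IsNagata Γ(Y, W) := fun y => by
    obtain ⟨U, hU, hyU, -⟩ := exists_isAffineOpen_mem_and_subset (X := X) (x := q y) (U := ⊤) trivial
    obtain ⟨W, hW, hyW, hWU⟩ := exists_isAffineOpen_mem_and_subset (X := Y) (x := y) (U := q ⁻¹ᵁ U) hyU
    letI : Algebra Γ(X, U) Γ(Y, W) := (q.appLE U W hWU).hom.toAlgebra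
    haveI : Algebra.FiniteType Γ(X, U) Γ(Y, W) := q.finiteType_appLE hU hW hWU
    exact ⟨W, hW, hyW, H1CAlg.isNagata_of_finiteType (hX ⟨U, hU⟩)⟩
  choose W hW hy hN using H
  exact H8Props.NagataAffine.isNagata_affineOpen Y W
    (eq_top_iff.2 fun y _ => TopologicalSpace.Opens.mem_iSup.2 ⟨y, hy y⟩) hW V.1 V.2 hN

theorem isNormalScheme_spec_field (K : Type u) [Field K] : Pi1.IsNormalScheme (Spec (CommRingCat.of K)) := by
  intro x
  letI : Algebra K ((Spec (CommRingCat.of K)).presheaf.stalk x) := StructureSheaf.stalkAlgebra K x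
  haveI : IsLocalization.AtPrime ((Spec (CommRingCat.of K)).presheaf.stalk x) x.asIdeal :=
    inferInstanceAs (IsLocalization.AtPrime ((Spec.structureSheaf K).presheaf.stalk x) x.asIdeal)
  exact ⟨IsLocalization.isDomain_of_atPrime _ x.asIdeal,
    isIntegrallyClosed_of_isLocalization _ x.asIdeal.primeCompl fun z hz =>
      mem_nonZeroDivisors_of_ne_zero fun h => hz (h ▸ zero_mem _)⟩

theorem isNormalScheme_sigma {ι : Type u} (Z : ι → Scheme.{u}) (hZ : ∀ i, Pi1.IsNormalScheme (Z i)) :
    Pi1.IsNormalScheme (∐ Z) := by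
  intro z
  obtain ⟨i, z₀, rfl⟩ := (sigmaOpenCover Z).exists_eq z
  let e := (asIso ((Sigma.ι Z i).stalkMap z₀)).commRingCatIsoToRingEquiv
  haveI := (hZ i z₀).1
  haveI := (hZ i z₀).2
  exact ⟨e.toMulEquiv.isDomain _, IsIntegrallyClosed.of_equiv e.symm⟩

/-- A Noetherian Nagata scheme has a normal scheme finite and surjective over it. -/
theorem exists_normal_cover [AlgebraicGeometry.IsNoetherian Y] (hY : IsNagataScheme Y) :
    ∃ (Y' : Scheme.{u}) (ν : Y' ⟶ Y), IsFinite ν ∧ Surjective ν ∧ Pi1.IsNormalScheme Y' := by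
  classical
  haveI : TopologicalSpace.NoetherianSpace Y := inferInstance
  let η : genericPoints Y → Y := Subtype.val
  haveI : Finite (genericPoints Y) :=
    Finite.of_equiv _ (genericPoints.equiv (α := Y)).symm
      (h := (TopologicalSpace.NoetherianSpace.finite_irreducibleComponents (α := Y)).to_subtype)
  let Z : genericPoints Y → Scheme.{u} := fun i => Spec (CommRingCat.of (Y.residueField (η i)))
  let f : ∐ Z ⟶ Y := Sigma.desc fun i => Y.fromSpecResidueField (η i)
  haveI : IsAffine (∐ Z) := inferInstance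
  haveI : QuasiCompact f := QuasiCompact.of_comp f (terminal.from Y)
  haveI : QuasiSeparated f := QuasiSeparated.of_comp f (terminal.from Y)
  have hZn : Pi1.IsNormalScheme (∐ Z) := isNormalScheme_sigma Z fun i => isNormalScheme_spec_field _
  haveI : ∀ z : (∐ Z : Scheme.{u}), _root_.IsReduced ((∐ Z : Scheme.{u}).presheaf.stalk z) := fun z =>
    haveI := (hZn z).1
    inferInstance
  haveI : AlgebraicGeometry.IsReduced (∐ Z : Scheme.{u}) := isReduced_of_isReduced_stalk _
  haveI : ∀ i, IsLocallyNoetherian (Z i) := fun i => inferInstance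
  haveI : IsLocallyNoetherian (∐ Z : Scheme.{u}) :=
    (isLocallyNoetherian_iff_openCover (sigmaOpenCover Z)).2 fun i => inferInstanceAs (IsLocallyNoetherian (Z i))
  have hres : ∀ z : (∐ Z : Scheme.{u}), (f.residueFieldMap z).hom.EssFiniteType := fun z => by
    obtain ⟨i, z₀, rfl⟩ := (sigmaOpenCover Z).exists_eq z
    have hc : Sigma.ι Z i ≫ f = Y.fromSpecResidueField (η i) := Sigma.ι_desc _ _
    let φ := (Sigma.ι Z i ≫ f).residueFieldMap z₀
    have hs : Function.Surjective φ.hom := by
      refine Ideal.Quotient.lift_surjective_of_surjective _ _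
        (Ideal.Quotient.mk_surjective.comp ?_)
      haveI : IsPreimmersion (Sigma.ι Z i ≫ f) := by rw [hc]; infer_instance
      exact (Sigma.ι Z i ≫ f).stalkMap_surjective z₀
    refine (RingHom.FiniteType.of_surjective _ ?_).essFiniteType
    intro w
    obtain ⟨a, ha⟩ := hs ((Sigma.ι Z i).residueFieldMap z₀ w)
    refine ⟨a, ((Sigma.ι Z i).residueFieldMap z₀).hom.injective (Eq.trans ?_ ha)⟩
    simp only [φ, Scheme.residueFieldMap_comp]
    rfl
  haveI : IsFinite f.fromNormalization :=
    H17.NagataNorm.finite_fromNormalization f hY (H17.NagataNorm.locallyFinite_irreducibleComponents _)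
      fun z _ => hres z
  refine ⟨f.normalization, f.fromNormalization, inferInstance, ⟨fun y => ?_⟩,
    (H17.NormalNormalizationScheme.normalization_normal f hZn (H17.NagataNorm.locallyFinite_irreducibleComponents _)).1⟩
  have hcl : IsClosed (Set.range f.fromNormalization) := f.fromNormalization.isClosedMap.isClosed_range
  obtain ⟨C, hC, hyC⟩ := ⟨irreducibleComponent y, irreducibleComponent_mem_irreducibleComponents y,
    mem_irreducibleComponent (x := y)⟩ |>
      (fun h : ∃ C : Set Y, C ∈ irreducibleComponents Y ∧ y ∈ C => h)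
  have hirr : IsIrreducible C := hC.1
  have hcC : IsClosed C := isClosed_of_mem_irreducibleComponents C hC
  let g : Y := hirr.genericPoint
  have hg : closure ({g} : Set Y) = C := hirr.closure_genericPoint hcC
  have hgen : g ∈ genericPoints Y := by
    show closure ({g} : Set Y) ∈ irreducibleComponents Y
    rw [hg]; exact hC
  let i : genericPoints Y := ⟨g, hgen⟩
  have hgr : g ∈ Set.range f.fromNormalization := by
    refine ⟨f.toNormalization (Sigma.ι Z i default), ?_⟩
    rw [← Scheme.Hom.comp_apply, Scheme.Hom.toNormalization_fromNormalization, ← Scheme.Hom.comp_apply]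
    rw [show Sigma.ι Z i ≫ f = Y.fromSpecResidueField (η i) from Sigma.ι_desc _ _]
    exact Scheme.fromSpecResidueField_apply _ _
  have : y ∈ closure ({g} : Set Y) := hg.symm ▸ hyC
  exact (hcl.closure_subset_iff.2 (Set.singleton_subset_iff.2 hgr)) this

/-- Direct image of a constant sheaf from a normal scheme along a separated quasi-finite morphism. -/
theorem isConstructible_push_normal [AlgebraicGeometry.IsNoetherian X] (hX : IsNagataScheme X) (q : Y ⟶ X)
    [LocallyQuasiFinite q] [LocallyOfFiniteType q] [QuasiCompact q] [IsSeparated q]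
    (hY : Pi1.IsNormalScheme Y) (M : Type) [AddCommGroup M] [Finite M] :
    EtPBC.IsConstructible ((EtCoh.push q).obj (EtCoh.const Y M)) := by
  haveI : IsLocallyNoetherian Y := LocallyOfFiniteType.isLocallyNoetherian q
  haveI : ∀ y : Y, _root_.IsReduced (Y.presheaf.stalk y) := fun y =>
    haveI := (hY y).1
    inferInstance
  haveI : AlgebraicGeometry.IsReduced Y := isReduced_of_isReduced_stalk _
  let ν := q.fromNormalization
  let j := q.toNormalization
  haveI : IsFinite ν := H17.NagataNorm.finite_fromNormalization_of_finiteType q hX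
  haveI : LocallyOfFinitePresentation ν := H18HTop.locallyOfFinitePresentation_of_noetherian ν
  have hT := (H17.NormalNormalizationScheme.normalization_normal q hY (H17.NagataNorm.locallyFinite_irreducibleComponents _)).1
  have hd : DenseRange j.base := j.denseRange
  haveI : IsIso ((EtCoh.pullPushAdj j).unit.app (EtCoh.const q.normalization M)) :=
    ConstSheaf.isIso_unit j hd (ConstSheaf.unibranchAlong_of_quasiCompact hT j hd)
      (ConstSheaf.isConstant_unitTop (X := q.normalization) (AddCommGrpCat.of (ULift.{u + 1} M)))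
  let e : (EtCoh.push j).obj (EtCoh.const Y M) ≅ EtCoh.const q.normalization M :=
    (EtCoh.push j).mapIso (EtCore.pullConst j M).symm ≪≫
      (asIso ((EtCoh.pullPushAdj j).unit.app (EtCoh.const q.normalization M))).symm
  have hc : EtPBC.IsConstructible ((EtCoh.push ν).obj (EtCoh.const q.normalization M)) :=
    Cons.isConstructible_push_finite ν _
      (H18Devissage.isConstructible_of_flc _ (LC.isFiniteLocallyConstant_const _))
  refine Cons.isConstructible_of_iso ?_ hc
  exact (EtCoh.push ν).mapIso e.symm ≪≫ (EtCoh.pushComp ν j).app _ ≪≫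
    (EtCoh.pushCongr (Scheme.Hom.toNormalization_fromNormalization q)).app _

/-- **Direct images along quasi-finite morphisms to Nagata schemes preserve constructibility.** -/
theorem isConstructible_push [AlgebraicGeometry.IsNoetherian X] (hX : IsNagataScheme X) (q : Y ⟶ X)
    [LocallyQuasiFinite q] [LocallyOfFiniteType q] [QuasiCompact q] (F : EtCoh.Ab Y)
    (hF : EtPBC.IsConstructible F) : EtPBC.IsConstructible ((EtCoh.push q).obj F) := by
  classical
  haveI : CompactSpace Y := QuasiCompact.compactSpace_of_compactSpace q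
  let 𝒰 := Y.affineCover.finiteSubcover
  haveI : ∀ i, IsAffine (𝒰.X i) := fun i => inferInstanceAs (IsAffine (Y.affineCover.X _))
  let p : ∐ 𝒰.X ⟶ Y := Sigma.desc 𝒰.f
  haveI : IsAffine (∐ 𝒰.X) := inferInstance
  haveI : LocallyOfFiniteType p := IsZariskiLocalAtSource.sigmaDesc fun i => inferInstance
  haveI : LocallyQuasiFinite p := IsZariskiLocalAtSource.sigmaDesc fun i => inferInstance
  haveI : Surjective p := ⟨fun y => by
    obtain ⟨i, y₀, rfl⟩ := 𝒰.exists_eq y
    refine ⟨Sigma.ι 𝒰.X i y₀, ?_⟩
    rw [← Scheme.Hom.comp_apply, show Sigma.ι 𝒰.X i ≫ p = 𝒰.f i from Sigma.ι_desc _ _]⟩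
  haveI : IsLocallyNoetherian Y := LocallyOfFiniteType.isLocallyNoetherian q
  haveI : AlgebraicGeometry.IsNoetherian Y := {}
  haveI : QuasiCompact p := QuasiCompact.of_comp p (terminal.from Y)
  let q' : ∐ 𝒰.X ⟶ X := p ≫ q
  haveI : IsSeparated q' := IsSeparated.of_comp q' (terminal.from X)
  haveI : LocallyOfFiniteType q' := inferInstanceAs (LocallyOfFiniteType (p ≫ q))
  haveI : LocallyQuasiFinite q' := inferInstanceAs (LocallyQuasiFinite (p ≫ q))
  haveI : QuasiCompact q' := inferInstanceAs (QuasiCompact (p ≫ q))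
  haveI : IsLocallyNoetherian (∐ 𝒰.X : Scheme.{u}) := LocallyOfFiniteType.isLocallyNoetherian q'
  let F' := (EtCoh.pull p).obj F
  have hF' : EtPBC.IsConstructible F' := Cons.isConstructible_pull p F hF
  obtain ⟨m, Z, f, hf, hfp, M, iM, iFin, ι, hι⟩ := H1DFun.exists_mono_finite_const F' hF'
  have hr : ∀ i, ∃ (W : Scheme.{u}) (r : W ⟶ X)
      (b : (EtCoh.push q').obj ((EtCoh.push (f i)).obj (EtCoh.const (Z i) (M i))) ⟶
        (EtCoh.push r).obj (EtCoh.const W (M i))),
      Mono b ∧ EtPBC.IsConstructible ((EtCoh.push r).obj (EtCoh.const W (M i))) := fun i => by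
    haveI := hf i
    let g : Z i ⟶ X := f i ≫ q'
    haveI : IsLocallyNoetherian (Z i) := LocallyOfFiniteType.isLocallyNoetherian (f i)
    haveI : CompactSpace (Z i) := QuasiCompact.compactSpace_of_compactSpace (f i)
    haveI : AlgebraicGeometry.IsNoetherian (Z i) := {}
    haveI : LocallyOfFiniteType g := inferInstanceAs (LocallyOfFiniteType (f i ≫ q'))
    obtain ⟨W, ν, hν, hνs, hW⟩ := exists_normal_cover (isNagataScheme_of_lft g hX)
    haveI := hν
    haveI := hνs
    let r : W ⟶ X := ν ≫ g
    haveI : LocallyQuasiFinite g := inferInstanceAs (LocallyQuasiFinite (f i ≫ q'))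
    haveI : QuasiCompact g := inferInstanceAs (QuasiCompact (f i ≫ q'))
    haveI : IsSeparated g := inferInstanceAs (IsSeparated (f i ≫ q'))
    haveI : LocallyQuasiFinite r := inferInstanceAs (LocallyQuasiFinite (ν ≫ g))
    haveI : QuasiCompact r := inferInstanceAs (QuasiCompact (ν ≫ g))
    haveI : IsSeparated r := inferInstanceAs (IsSeparated (ν ≫ g))
    haveI : LocallyOfFiniteType r := inferInstanceAs (LocallyOfFiniteType (ν ≫ g))
    haveI : (EtCoh.push g).IsRightAdjoint := ⟨_, ⟨EtCoh.pullPushAdj g⟩⟩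
    have h1 := H15Site.HensCoh.mono_unit ν (EtCoh.const (Z i) (M i))
    let b₀ : EtCoh.const (Z i) (M i) ⟶ (EtCoh.push ν).obj (EtCoh.const W (M i)) :=
      (EtCoh.pullPushAdj ν).unit.app _ ≫ (EtCoh.push ν).map (EtCore.pullConst ν (M i)).hom
    haveI : Mono b₀ := @mono_comp _ _ _ _ _ _ h1 ((EtCoh.push ν).map (EtCore.pullConst ν (M i)).hom) inferInstance
    refine ⟨W, r, (EtCoh.pushComp q' (f i)).hom.app _ ≫ (EtCoh.push g).map b₀ ≫ (EtCoh.pushComp g ν).hom.app _,
      inferInstance, isConstructible_push_normal hX r hW (M i)⟩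
  choose W r b hb hc using hr
  haveI : (EtCoh.push q).IsRightAdjoint := ⟨_, ⟨EtCoh.pullPushAdj q⟩⟩
  haveI : (EtCoh.push q').IsRightAdjoint := ⟨_, ⟨EtCoh.pullPushAdj q'⟩⟩
  haveI : (EtCoh.push q').Additive := Functor.additive_of_preserves_binary_products _
  haveI := H15Site.HensCoh.mono_unit p F
  let a : (EtCoh.push q).obj F ⟶ (EtCoh.push q').obj F' :=
    (EtCoh.push q).map ((EtCoh.pullPushAdj p).unit.app F) ≫ (EtCoh.pushComp q p).hom.app F'
  let c : (EtCoh.push q').obj F' ⟶ ⨁ fun i => (EtCoh.push (r i)).obj (EtCoh.const (W i) (M i)) :=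
    (EtCoh.push q').map ι ≫ ((EtCoh.push q').mapBiproduct _).hom ≫ biproduct.map b
  haveI : Mono a := mono_comp _ _
  haveI : Mono c := by
    haveI := hι
    haveI : Mono (biproduct.map b) := inferInstance
    exact mono_comp _ _
  exact Cons.isConstructible_sub (a ≫ c) (Cons.isConstructible_biproduct _ hc)

end Groth.Agent.H18QFPush
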